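import Mathlib
import Cfsg.Agent.H19.McP.B

set_option autoImplicit false
set_option maxRecDepth 100000
set_option Elab.async false
set_option linter.all false

namespace H19.McP
open H29

theorem iv0 : chkIvP 275 9 nets (ivOf McT1.ivl) 6 0 = true := by decide +kernel

theorem iv1 : chkIvP 275 9 nets (ivOf McT1.ivl) 6 1 = true := by decide +kernel

theorem iv2 : chkIvP 275 9 nets (ivOf McT1.ivl) 6 2 = true := by decide +kernel

theorem iv3 : chkIvP 275 9 nets (ivOf McT1.ivl) 6 3 = true := by decide +kernel

theorem iv4 : chkIvP 275 9 nets (ivOf McT1.ivl) 6 4 = true := by decide +kernel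

theorem iv5 : chkIvP 275 9 nets (ivOf McT1.ivl) 6 5 = true := by decide +kernel

theorem iv6 : chkIvP 275 9 nets (ivOf McT1.ivl) 6 6 = true := by decide +kernel

theorem iv7 : chkIvP 275 9 nets (ivOf McT1.ivl) 6 7 = true := by decide +kernel

theorem iv8 : chkIvP 275 9 nets (ivOf McT1.ivl) 6 8 = true := by decide +kernel

theorem r0_0 : chkRelP 275 9 nets (ivOf McT1.ivl) G0 0 = true := by decide +kernel

theorem r0_1 : chkRelP 275 9 nets (ivOf McT1.ivl) G0 1 = true := by decide +kernel

theorem r0_2 : chkRelP 275 9 nets (ivOf McT1.ivl) G0 2 = true := by decide +kernel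

theorem r0_3 : chkRelP 275 9 nets (ivOf McT1.ivl) G0 3 = true := by decide +kernel

theorem r0_4 : chkRelP 275 9 nets (ivOf McT1.ivl) G0 4 = true := by decide +kernel

theorem r0_5 : chkRelP 275 9 nets (ivOf McT1.ivl) G0 5 = true := by decide +kernel

theorem r0_6 : chkRelP 275 9 nets (ivOf McT1.ivl) G0 6 = true := by decide +kernel

theorem r0_7 : chkRelP 275 9 nets (ivOf McT1.ivl) G0 7 = true := by decide +kernel

theorem r0_8 : chkRelP 275 9 nets (ivOf McT1.ivl) G0 8 = true := by decide +kernel

end H19.McP
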